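import Groth.Agent.Lib.ModConstr.Tensor
import Groth.Agent.Lib.ExtZero.Tuples
import Groth.Agent.Lib.LocConst.Pull
import Groth.Prelude.Def_SixF2

/-!
# Extensions by zero of the constant sheaf of modules: sections, stalks, inverse images
-/

set_option autoImplicit false
set_option linter.style.haveILetI false
set_option linter.unusedSectionVars false
set_option backward.isDefEq.respectTransparency false
set_option backward.isDefEq.respectTransparency.types false

universe u

open CategoryTheory CategoryTheory.Limits AlgebraicGeometry Opposite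

noncomputable section

namespace GrothLib.FreeCons19

open GrothLib.EtSite GrothLib.TrivEt GrothLib.TrivMod GrothLib.ExtZero

variable {Λ : Type (u + 1)} [CommRing Λ] {X Y : Scheme.{u}}

instance etale_hom (V : X.Etale) : Etale V.hom := V.prop

instance jcont_hom (V : X.Etale) : EtShriek.JCont V.hom := GrothLib.LocConst.jCont_hom V

variable (Λ) in
/-- `j_! Λ` for an object of the small étale site. -/
abbrev fr (V : X.Etale) : EtModW.Mod Λ X :=
  (EtSix.extZeroMod Λ V.hom).obj (EtSix.constΛ Λ V.left)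

/-- An object is the image of the top of its slice. -/
def topIso (V : X.Etale) : (EtShriek.compEtale V.hom).obj (EtCoh.top V.left) ≅ V :=
  MorphismProperty.Over.isoMk (Iso.refl _) ((Category.id_comp _).trans (Category.id_comp _).symm)

/-- Morphisms out of `j_! Λ` are sections. -/
def secEquiv (V : X.Etale) (G : EtModW.Mod Λ X) : (fr Λ V ⟶ G) ≃ G.obj.obj (op V) :=
  ((EtSix.extZeroModAdj Λ V.hom).homEquiv _ _).trans
    (((EtSix.constModAdj Λ V.left).homEquiv _ _).trans
      ((ModuleCat.homEquiv).trans ((LinearMap.ringLmapEquivSelf Λ Λ _).toEquiv.trans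
        (G.obj.mapIso (topIso V).symm.op).toLinearEquiv.toEquiv)))

theorem secEquiv_apply (V : X.Etale) {G : EtModW.Mod Λ X} (φ : fr Λ V ⟶ G) :
    secEquiv V G φ = G.obj.map (topIso V).inv.op
      (((EtSix.constModAdj Λ V.left).homEquiv _ _ ((EtSix.extZeroModAdj Λ V.hom).homEquiv _ _ φ)).hom (1 : Λ)) :=
  rfl

theorem secEquiv_comp (V : X.Etale) {G H : EtModW.Mod Λ X} (φ : fr Λ V ⟶ G) (a : G ⟶ H) :
    secEquiv V H (φ ≫ a) = a.hom.app (op V) (secEquiv V G φ) := by
  rw [secEquiv_apply, secEquiv_apply, Adjunction.homEquiv_naturality_right, Adjunction.homEquiv_naturality_right]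
  exact (NatTrans.naturality_apply a.hom (topIso V).inv.op _).symm

variable (Λ) in
/-- The universal section. -/
def unitSec (V : X.Etale) : (fr Λ V).obj.obj (op V) := secEquiv V _ (𝟙 _)

theorem secEquiv_eq (V : X.Etale) {G : EtModW.Mod Λ X} (φ : fr Λ V ⟶ G) :
    secEquiv V G φ = φ.hom.app (op V) (unitSec Λ V) := by
  rw [unitSec, ← secEquiv_comp, Category.id_comp]

/-- The morphism given by a section. -/
def desc (V : X.Etale) {G : EtModW.Mod Λ X} (s : G.obj.obj (op V)) : fr Λ V ⟶ G := (secEquiv V G).symm s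

theorem desc_app (V : X.Etale) {G : EtModW.Mod Λ X} (s : G.obj.obj (op V)) :
    (desc V s).hom.app (op V) (unitSec Λ V) = s := by
  rw [← secEquiv_eq, desc, Equiv.apply_symm_apply]

theorem hom_ext (V : X.Etale) {G : EtModW.Mod Λ X} {φ ψ : fr Λ V ⟶ G}
    (h : φ.hom.app (op V) (unitSec Λ V) = ψ.hom.app (op V) (unitSec Λ V)) : φ = ψ :=
  (secEquiv V G).injective (by rw [secEquiv_eq, secEquiv_eq, h])

section Stalk

variable (V : X.Etale) {Ω : Type u} [Field Ω] [IsSepClosed Ω] (ξ : Spec (CommRingCat.of Ω) ⟶ X)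

variable (Λ) in
/-- The germs of the universal section. -/
def germUnit (t : (Scheme.pointSmallEtale ξ).fiber.obj V) : (EtModW.stalk Λ ξ).obj (fr Λ V) :=
  (Scheme.pointSmallEtale ξ).toPresheafFiber V t (fr Λ V).obj (unitSec Λ V)

theorem bijective_comp_germUnit (M : ModuleCat.{u + 1} Λ) :
    Function.Bijective fun (f : (EtModW.stalk Λ ξ).obj (fr Λ V) ⟶ M) (t : (Scheme.pointSmallEtale ξ).fiber.obj V) =>
      f (germUnit Λ V ξ t) := by
  let P : X.smallEtaleTopology.Point := Scheme.pointSmallEtale ξ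
  let K : P.fiber.obj V → ModuleCat.{u + 1} Λ := fun _ => M
  let e : ((EtModW.stalk Λ ξ).obj (fr Λ V) ⟶ M) ≃ (P.fiber.obj V → M) :=
    (P.skyscraperSheafAdjunction.homEquiv (fr Λ V) M).trans
      ((secEquiv V (P.skyscraperSheaf M)).trans (Concrete.productEquiv K))
  have he : ⇑e = fun f t => f (germUnit Λ V ξ t) := by
    funext f t
    show Concrete.productEquiv K (secEquiv V _ (P.skyscraperSheafAdjunction.homEquiv _ M f)) t = _
    rw [Concrete.productEquiv_apply_apply, secEquiv_eq]
    refine (congrArg (fun z : (fr Λ V).obj ⟶ P.skyscraperPresheaf M => Pi.π K t (z.app (op V) (unitSec Λ V)))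
      (P.skyscraperSheafAdjunction_homEquiv_apply_hom (F := fr Λ V) f)).trans ?_
    refine (ConcreteCategory.comp_apply ((P.skyscraperPresheafHomEquiv f).app (op V)) (Pi.π K t)
      (unitSec Λ V)).symm.trans ?_
    exact ConcreteCategory.congr_hom (Pi.lift_π _ _) (unitSec Λ V)
  exact he ▸ e.bijective

variable (Λ) in
/-- The stalk of `j_! Λ` is free on the points over the geometric point. -/
theorem bijective_linearCombination :
    Function.Bijective (Finsupp.linearCombination Λ (germUnit Λ V ξ)) := by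
  classical
  obtain ⟨f, hf⟩ := (bijective_comp_germUnit V ξ
    (ModuleCat.of Λ ((Scheme.pointSmallEtale ξ).fiber.obj V →₀ Λ))).2 fun t => Finsupp.single t (1 : Λ)
  let L := Finsupp.linearCombination Λ (germUnit Λ V ξ)
  have h1 : f.hom.comp L = LinearMap.id := by
    refine Finsupp.lhom_ext fun t c => ?_
    show f.hom (L (Finsupp.single t c)) = Finsupp.single t c
    rw [Finsupp.linearCombination_single, map_smul]
    have : f.hom (germUnit Λ V ξ t) = Finsupp.single t (1 : Λ) := congrFun hf t
    rw [this, Finsupp.smul_single, smul_eq_mul, mul_one]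
  have h2 : ModuleCat.ofHom (L.comp f.hom) = 𝟙 _ := (bijective_comp_germUnit V ξ _).1 (funext fun t => by
    show L (f.hom (germUnit Λ V ξ t)) = germUnit Λ V ξ t
    have : f.hom (germUnit Λ V ξ t) = Finsupp.single t (1 : Λ) := congrFun hf t
    rw [this, Finsupp.linearCombination_single, one_smul])
  exact ⟨Function.LeftInverse.injective (g := f.hom) fun x => LinearMap.congr_fun h1 x,
    fun y => ⟨f.hom y, ConcreteCategory.congr_hom h2 y⟩⟩

theorem free_stalk_fr : Module.Free Λ ((EtModW.stalk Λ ξ).obj (fr Λ V)) :=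
  Module.Free.of_equiv (LinearEquiv.ofBijective _ (bijective_linearCombination Λ V ξ))

end Stalk

/-- Inverse images of `j_! Λ`. -/
def pullFr (g : Y ⟶ X) (V : X.Etale) : (EtModW.pull Λ g).obj (fr Λ V) ≅ fr Λ ((EtCoh.bc g).obj V) where
  hom := ((FixPt.pullPushAdj (Λ := Λ) g).homEquiv _ _).symm
    (desc V (G := (EtModW.push Λ g).obj (fr Λ ((EtCoh.bc g).obj V))) (unitSec Λ ((EtCoh.bc g).obj V)))
  inv := desc ((EtCoh.bc g).obj V)
    (((FixPt.pullPushAdj (Λ := Λ) g).unit.app (fr Λ V)).hom.app (op V) (unitSec Λ V))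
  hom_inv_id := by
    apply ((FixPt.pullPushAdj (Λ := Λ) g).homEquiv _ _).injective
    rw [Adjunction.homEquiv_naturality_right, Equiv.apply_symm_apply, Adjunction.homEquiv_id]
    refine hom_ext V ?_
    show (desc ((EtCoh.bc g).obj V) _).hom.app (op ((EtCoh.bc g).obj V))
      ((desc V (G := (EtModW.push Λ g).obj (fr Λ ((EtCoh.bc g).obj V))) (unitSec Λ ((EtCoh.bc g).obj V))).hom.app (op V)
        (unitSec Λ V)) = _
    rw [desc_app]
    exact desc_app _ _
  inv_hom_id := by
    refine hom_ext _ ?_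
    let φ := desc V (G := (EtModW.push Λ g).obj (fr Λ ((EtCoh.bc g).obj V))) (unitSec Λ ((EtCoh.bc g).obj V))
    show (((FixPt.pullPushAdj (Λ := Λ) g).homEquiv _ _).symm φ).hom.app _
      ((desc ((EtCoh.bc g).obj V) _).hom.app _ (unitSec Λ ((EtCoh.bc g).obj V))) = _
    rw [desc_app]
    have h := congrArg (fun z : fr Λ V ⟶ _ => z.hom.app (op V) (unitSec Λ V))
      (((FixPt.pullPushAdj (Λ := Λ) g).homEquiv _ _).apply_symm_apply φ)
    simp only [Adjunction.homEquiv_unit] at h
    exact h.trans (desc_app V _)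

theorem stalk_desc_germUnit {W V : X.Etale} (a : W ⟶ V) {Ω : Type u} [Field Ω] [IsSepClosed Ω]
    (ξ : Spec (CommRingCat.of Ω) ⟶ X) (s : (Scheme.pointSmallEtale ξ).fiber.obj W) :
    (Scheme.pointSmallEtale ξ).toPresheafFiber W s (fr Λ V).obj ((fr Λ V).obj.map a.op (unitSec Λ V)) =
      germUnit Λ V ξ ((Scheme.pointSmallEtale ξ).fiber.map a s) := by
  rw [GrothendieckTopology.Point.toPresheafFiber_w_apply]
  rfl

/-- A separated quasi-compact object with fibres of constant cardinality gives a finite type locally constant sheaf. -/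
theorem flc_fr_of_card (V : X.Etale) [IsSeparated V.hom] [QuasiCompact V.hom] (k : ℕ)
    (hk : ∀ (Ω : Type u) [Field Ω] [IsSepClosed Ω] (ξ : Spec (CommRingCat.of Ω) ⟶ X), Nat.card (Pts V.hom ξ) = k) :
    EtModW.IsFTLocConst Λ (fr Λ V) := by
  classical
  obtain ⟨T⟩ := nonempty_tuples V.hom k
  let a : Fin k → (T.W ⟶ V) := fun i => MorphismProperty.Over.homMk (T.σ i) (T.w i) trivial
  let m : (Fin k → Λ) →ₗ[Λ] (fr Λ V).obj.obj (op T.W) :=
    Fintype.linearCombination Λ fun i => (fr Λ V).obj.map (a i).op (unitSec Λ V)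
  refine isFTLocConst_of_forall fun x => ?_
  let ξ : Spec (CommRingCat.of _) ⟶ X := gpt x
  haveI := finite_pts V.hom ξ
  obtain ⟨l, hl, -⟩ := T.surj _ ξ ((Finite.equivFinOfCardEq (hk _ ξ)).symm) (Equiv.injective _)
  refine ⟨T.W, l.base default, ?_, Fin k → Λ, inferInstance, inferInstance, inferInstance, m,
    GrothLib.ModConstr.isTriv_of_bijective_germ _ fun Ω _ _ η s => ?_⟩
  · exact (congrArg (fun z : Spec (CommRingCat.of _) ⟶ X => z.base default) hl).trans (gpt_default x)
  haveI := finite_pts V.hom η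
  let Φ : X.smallEtaleTopology.Point := Scheme.pointSmallEtale η
  let toPts : Φ.fiber.obj V ≃ Pts V.hom η :=
    { toFun := fun t => ⟨t.left, Over.w t⟩
      invFun := fun p => Over.homMk p.1 p.2
      left_inv := fun t => Over.OverMorphism.ext rfl
      right_inv := fun p => rfl }
  let e0 : Fin k → Φ.fiber.obj V := fun i => Φ.fiber.map (a i) s
  have he0 : Function.Injective e0 := fun i i' h => T.inj Ω s.left (congrArg (fun t => t.left) h :)
  haveI : Finite (Φ.fiber.obj V) := Finite.of_equiv _ toPts.symm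
  let e : Fin k ≃ Φ.fiber.obj V := Equiv.ofBijective e0 ((Nat.bijective_iff_injective_and_card e0).2
    ⟨he0, by rw [Nat.card_eq_fintype_card, Fintype.card_fin, Nat.card_congr toPts, hk Ω η]⟩)
  let G : (Fin k → Λ) →ₗ[Λ] (EtModW.stalk Λ η).obj (fr Λ V) := (Φ.toPresheafFiber T.W s (fr Λ V).obj).hom.comp m
  let c : (Fin k → Λ) ≃ₗ[Λ] (Φ.fiber.obj V →₀ Λ) :=
    (Finsupp.linearEquivFunOnFinite Λ Λ (Fin k)).symm.trans (Finsupp.domLCongr e)
  have hG : G = (Finsupp.linearCombination Λ (germUnit Λ V η)).comp c.toLinearMap := by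
    refine LinearMap.pi_ext fun i b => ?_
    show Φ.toPresheafFiber T.W s (fr Λ V).obj (m (Pi.single i b)) =
      Finsupp.linearCombination Λ (germUnit Λ V η) (c (Pi.single i b))
    have hc : c (Pi.single i b) = Finsupp.single (e i) b := by
      simp [c, Finsupp.linearEquivFunOnFinite_symm_single]
    rw [hc, Finsupp.linearCombination_single, Fintype.linearCombination_apply_single, map_smul,
      stalk_desc_germUnit]
    rfl
  show Function.Bijective G
  rw [hG]
  exact (bijective_linearCombination Λ V η).comp c.bijective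

end GrothLib.FreeCons19
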