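import Groth.Agent.Lib.FreeCons19.Basic
import Groth.Agent.Lib.ModConstr.Serre
import Groth.Agent.Lib.ModConstr.GenericOpen
import Groth.Agent.Lib.ModConstr.Zero
import Groth.Agent.Lib.Constructible.ExtZero
import Groth.Prelude.Def_WeakSerre

/-!
# `j_! Λ` is constructible, and constructible sheaves are quotients of finite sums of them
-/

set_option autoImplicit false
set_option linter.style.haveILetI false
set_option linter.unusedSectionVars false
set_option backward.isDefEq.respectTransparency false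
set_option backward.isDefEq.respectTransparency.types false

universe u

open CategoryTheory CategoryTheory.Limits AlgebraicGeometry Opposite Topology

noncomputable section

namespace GrothLib.FreeCons19

open GrothLib.EtSite GrothLib.TrivEt GrothLib.TrivMod GrothLib.ExtZero
open GrothLib.Constructible (atLeast mem_atLeast_iff mem_atLeast_iff' isOpen_atLeast isConstructible_atLeast natCard_pts_baseChange)
open GrothLib.ModConstr (flc_of_iso adapted_of_pieces isConstructible_iff_univ isConstructible_kernel_cokernel isConstructible_of_iso isConstructible_of_isZero)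

attribute [local instance] Abelian.hasFiniteBiproducts

variable {Λ : Type (u + 1)} [CommRing Λ] {X : Scheme.{u}}

theorem flc_pull_fr (V : X.Etale) [IsSeparated V.hom] [QuasiCompact V.hom] {T : Scheme.{u}} (g : T ⟶ X) (k : ℕ)
    (h : ∀ t : T, g.base t ∈ atLeast V.hom k ∧ g.base t ∉ atLeast V.hom (k + 1)) :
    EtModW.IsFTLocConst Λ ((EtModW.pull Λ g).obj (fr Λ V)) := by
  let V' := (EtCoh.bc g).obj V
  have sq : IsPullback V'.hom (pullback.fst V.hom g) g V.hom := (IsPullback.of_hasPullback V.hom g).flip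
  haveI : IsSeparated V'.hom := inferInstanceAs (IsSeparated (pullback.snd V.hom g))
  haveI : QuasiCompact V'.hom := inferInstanceAs (QuasiCompact (pullback.snd V.hom g))
  refine flc_of_iso (pullFr g V).symm (flc_fr_of_card V' k fun Ω _ _ η => ?_)
  rw [natCard_pts_baseChange V.hom g V'.hom _ sq η]
  haveI := finite_pts V.hom (η ≫ g)
  obtain ⟨h1, h2⟩ := h (η.base default)
  have a := (mem_atLeast_iff V.hom k (η ≫ g)).1 h1
  have b : ¬ k + 1 ≤ Nat.card (Pts V.hom (η ≫ g)) := fun hb => h2 ((mem_atLeast_iff V.hom (k + 1) (η ≫ g)).2 hb)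
  lia

/-- The separated case. -/
theorem isConstructible_fr [CompactSpace X] [QuasiSeparatedSpace X] (V : X.Etale) [IsSeparated V.hom]
    [QuasiCompact V.hom] : EtModW.IsConstructible Λ (fr Λ V) := by
  let j : V.left ⟶ X := V.hom
  haveI : Etale j := V.prop
  haveI : QuasiCompact j := ‹QuasiCompact V.hom›
  haveI : IsSeparated j := ‹IsSeparated V.hom›
  obtain ⟨N, hN⟩ : ∃ N : ℕ, ∀ x : X, x ∉ atLeast j N := by
    have hanti : ∀ {a b : ℕ}, a ≤ b → atLeast j b ⊆ atLeast j a := fun {a b} hab x hx => by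
      exact (mem_atLeast_iff' j a x).2 (hab.trans ((mem_atLeast_iff' j b x).1 hx))
    obtain ⟨t, ht⟩ := @IsCompact.elim_finite_subcover X (constructibleTopology _) Set.univ _
      (GrothLib.Constr.isCompact_constructibleTopology_of_isClosed
        (@isClosed_univ X (constructibleTopology _)))
      (fun k => (atLeast j k)ᶜ)
      (fun k => (GrothLib.Constr.isOpen_constructibleTopology_of_isConstructible
        (isConstructible_atLeast j k).compl).1)
      (fun x _ => Set.mem_iUnion.2 ⟨Nat.card (Pts j (gpt x)) + 1, fun hx => by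
        rw [mem_atLeast_iff'] at hx
        lia⟩)
    refine ⟨t.sup id, fun x hx => ?_⟩
    obtain ⟨k, hk, hxk⟩ := Set.mem_iUnion₂.1 (ht (Set.mem_univ x))
    exact hxk (hanti (Finset.le_sup (f := id) hk) hx)
  let O : ℕ → X.Opens := fun k => ⟨atLeast j k, isOpen_atLeast j k⟩
  let Z : ∀ k, TopologicalSpace.Closeds ↥(O k : Scheme.{u}) := fun k =>
    ⟨(O k).ι ⁻¹' (atLeast j (k + 1))ᶜ,
      (isOpen_atLeast j (k + 1)).isClosed_compl.preimage (O k).ι.continuous⟩
  let I := fun k => Scheme.IdealSheafData.vanishingIdeal (Z k)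
  let g : ∀ k, (I k).subscheme ⟶ X := fun k => (I k).subschemeι ≫ (O k).ι
  have hrange : ∀ k, Set.range (g k) = atLeast j k \ atLeast j (k + 1) := fun k => by
    rw [show Set.range (g k) = (O k).ι '' Set.range (I k).subschemeι from
      Set.range_comp (O k).ι (I k).subschemeι, Scheme.IdealSheafData.range_subschemeι,
      Scheme.IdealSheafData.coe_support_vanishingIdeal]
    refine (Set.image_preimage_eq_inter_range (f := (O k).ι)
      (t := (atLeast j (k + 1))ᶜ)).trans ?_
    rw [Scheme.Opens.range_ι, Set.inter_comm]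
    rfl
  rw [isConstructible_iff_univ]
  refine adapted_of_pieces (fr Λ V) ⊤ (fun k : Fin (N + 1) => (I k).subscheme)
    (fun k => g k) (fun k => Set.range (g k)) (fun k => le_rfl) (fun k => ?_) (fun x _ => ?_)
    (fun k => flc_pull_fr V (g k) k fun t => (hrange k).le ⟨t, rfl⟩)
  · rw [hrange]
    exact (⊤ : X.Opens).ι.isConstructible_preimage
      ((isConstructible_atLeast j k).sdiff (isConstructible_atLeast j _))
  · have h1 : x ∈ atLeast j (Nat.card (Pts j (gpt x))) := (mem_atLeast_iff' j _ x).2 le_rfl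
    have h2 : x ∉ atLeast j (Nat.card (Pts j (gpt x)) + 1) := fun h => by
      have := (mem_atLeast_iff' j _ x).1 h
      lia
    have hlt : Nat.card (Pts j (gpt x)) < N + 1 := by
      by_contra hge
      refine hN x ((mem_atLeast_iff' j N x).2 ?_)
      lia
    exact Set.mem_iUnion.2 ⟨⟨_, hlt⟩, by rw [hrange]; exact ⟨h1, h2⟩⟩

/-- Affine étale schemes over a quasi-compact quasi-separated scheme. -/
theorem isConstructible_fr_affine [CompactSpace X] [QuasiSeparatedSpace X] (V : X.Etale) [IsAffine V.left] :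
    EtModW.IsConstructible Λ (fr Λ V) := by
  let j : V.left ⟶ X := V.hom
  haveI : QuasiCompact V.hom := by
    haveI : QuasiCompact (j ≫ terminal.from X) := by rw [terminal.comp_from]; infer_instance
    exact (QuasiCompact.of_comp j (terminal.from X) : QuasiCompact j)
  haveI : IsSeparated V.hom := by
    haveI : IsSeparated (j ≫ terminal.from X) := by rw [terminal.comp_from]; infer_instance
    exact (IsSeparated.of_comp j (terminal.from X) : IsSeparated j)
  exact isConstructible_fr V

/-- Finite sums of constructible sheaves. -/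
theorem isConstructible_sigma [IsNoetherianRing Λ] {ι : Type} [Finite ι] (G : ι → EtModW.Mod Λ X)
    (h : ∀ i, EtModW.IsConstructible Λ (G i)) : EtModW.IsConstructible Λ (∐ G) := by
  haveI := Fintype.ofFinite ι
  let P : ObjectProperty (EtModW.Mod Λ X) := fun F => EtModW.IsConstructible Λ F
  haveI : WSerre.IsWeakSerre P :=
    { exists_zero := by
        obtain ⟨Z, hZ⟩ := HasZeroObject.zero (C := EtModW.Mod Λ X)
        exact ⟨Z, hZ, isConstructible_of_isZero hZ⟩
      kernels_le := by
        rintro K ⟨f, ι, hι, ⟨h₁, h₂⟩⟩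
        exact isConstructible_of_iso ((kernelIsKernel f).conePointUniqueUpToIso hι)
          (isConstructible_kernel_cokernel f h₁ h₂).1
      cokernels_le := by
        rintro K ⟨f, π, hπ, ⟨h₁, h₂⟩⟩
        exact isConstructible_of_iso ((cokernelIsCokernel f).coconePointUniqueUpToIso hπ)
          (isConstructible_kernel_cokernel f h₁ h₂).2
      toIsClosedUnderExtensions := ⟨fun {S} hS h₁ h₃ => GrothLib.ModConstr.isConstructible_middle S hS h₁ h₃⟩ }
  haveI : P.IsClosedUnderLimitsOfShape (Discrete ι) :=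
    ObjectProperty.IsClosedUnderFiniteProducts.isClosedUnderLimitsOfShape ι
  exact isConstructible_of_iso (biproduct.isoCoproduct G)
    (P.prop_of_isLimit (biproduct.isLimit G) fun j => h j.as)

theorem surjective_stalk {A B : EtModW.Mod Λ X} (v : A ⟶ B) [Epi v] {Ω : Type u} [Field Ω] [IsSepClosed Ω]
    (ξ : Spec (CommRingCat.of Ω) ⟶ X) : Function.Surjective ((EtModW.stalk Λ ξ).map v) :=
  (ModuleCat.epi_iff_surjective _).1 inferInstance

theorem stalk_map_map_eq_zero {A B C : EtModW.Mod Λ X} (f : A ⟶ B) (g : B ⟶ C) (h : f ≫ g = 0)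
    {Ω : Type u} [Field Ω] [IsSepClosed Ω] (ξ : Spec (CommRingCat.of Ω) ⟶ X) (w : (EtModW.stalk Λ ξ).obj A) :
    (EtModW.stalk Λ ξ).map g ((EtModW.stalk Λ ξ).map f w) = 0 := by
  rw [← ConcreteCategory.comp_apply, ← Functor.map_comp, h, Functor.map_zero]
  rfl

/-- Where a constructible sheaf has zero stalk it vanishes on a constructible neighbourhood. -/
theorem exists_nhd_subsingleton [CompactSpace X] [QuasiSeparatedSpace X] (Q : EtModW.Mod Λ X)
    (hQ : EtModW.IsConstructible Λ Q) (x : X)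
    (hx : Subsingleton ((EtModW.stalk Λ (gpt x)).obj Q)) :
    ∃ N : Set X, IsOpen[constructibleTopology X] N ∧ x ∈ N ∧
      ∀ (Ω : Type u) [Field Ω] [IsSepClosed Ω] (η : Spec (CommRingCat.of Ω) ⟶ X), η.base default ∈ N →
        Subsingleton ((EtModW.stalk Λ η).obj Q) := by
  obtain ⟨n, T, g, himm, hcons, -, hcov, hflc⟩ := (isConstructible_iff_univ Q).1 hQ
  obtain ⟨i, t, ht⟩ := Set.mem_iUnion.1 (hcov.ge (Set.mem_univ x))
  haveI := himm i
  obtain ⟨V, v, hv, M, _, _, _, m, hm⟩ := exists_triv_of_isFTLocConst (hflc i) t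
  obtain ⟨ζ, hζ, hζt⟩ := GrothLib.Constructible.exists_point_lift (g i) (gpt x) t (ht.trans (gpt_default x).symm)
  obtain ⟨s, -⟩ := exists_fib ζ v (hv.trans hζt.symm)
  haveI hMsub : Subsingleton M := by
    haveI : Subsingleton ((EtModW.stalk Λ (ζ ≫ g i)).obj Q) := by rw [hζ]; exact hx
    haveI : Subsingleton ((EtModW.pull Λ (g i) ⋙ EtModW.stalk Λ ζ).obj Q) :=
      ((GrothLib.ModConstr.pullStalkIso ζ (g i)).app Q).toLinearEquiv.toEquiv.subsingleton
    exact (bijective_germ ζ hm s).1.subsingleton (α := M)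
      (β := (EtModW.pull Λ (g i) ⋙ EtModW.stalk Λ ζ).obj Q)
  haveI : Etale V.hom := V.prop
  obtain ⟨W, hW, hWO⟩ := (g i).isEmbedding.isInducing.isOpen_iff.1 (V.hom.isOpenMap.isOpen_range)
  have hr : IsConstructible (Set.range (g i)) := by
    have h := (hcons i).image_of_isOpenEmbedding (isOpen_univ.isOpenEmbedding_subtypeVal)
      (by rw [Subtype.range_coe]; exact IsRetrocompact.univ)
    rwa [Set.image_preimage_eq_inter_range, Subtype.range_coe, Set.inter_univ] at h
  refine ⟨W ∩ Set.range (g i), @IsOpen.inter X (constructibleTopology X) _ _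
    (@Continuous.isOpen_preimage X X (constructibleTopology X) _ _ GrothLib.Constr.continuous_id_constructibleTopology W hW)
    (GrothLib.Constr.isOpen_constructibleTopology_of_isConstructible hr).1,
    ⟨?_, t, ht⟩, fun Ω _ _ η hη => ?_⟩
  · have : t ∈ g i ⁻¹' W := hWO.ge ⟨v, hv⟩
    rw [← ht]
    exact this
  · obtain ⟨hηW, t', ht'⟩ := hη
    obtain ⟨v', hv'⟩ : t' ∈ Set.range V.hom := hWO.le (show g i t' ∈ W from ht' ▸ hηW)
    obtain ⟨ζ', hζ', hζt'⟩ := GrothLib.Constructible.exists_point_lift (g i) η t' ht'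
    obtain ⟨s', -⟩ := exists_fib ζ' v' (hv'.trans hζt'.symm)
    subst hζ'
    haveI : Subsingleton ((EtModW.pull Λ (g i) ⋙ EtModW.stalk Λ ζ').obj Q) :=
      (bijective_germ ζ' hm s').2.subsingleton (α := M) (β := (EtModW.pull Λ (g i) ⋙ EtModW.stalk Λ ζ').obj Q)
    exact ((GrothLib.ModConstr.pullStalkIso ζ' (g i)).app Q).toLinearEquiv.symm.toEquiv.subsingleton

set_option maxHeartbeats 1600000 in
/-- A constructible quotient is generated by finitely many sections over affine étale schemes. -/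
theorem exists_generators [IsNoetherianRing Λ] [CompactSpace X] [QuasiSeparatedSpace X] {A B : EtModW.Mod Λ X}
    (v : A ⟶ B) [Epi v] (hB : EtModW.IsConstructible Λ B) :
    ∃ (m : ℕ) (V : Fin m → X.Etale), (∀ k, IsAffine (V k).left) ∧
      ∃ φ : (∐ fun k => fr Λ (V k)) ⟶ A, Epi (φ ≫ v) := by
  classical
  have loc : ∀ x : X, ∃ (r : ℕ) (V : X.Etale) (_ : IsAffine V.left) (φ : Fin r → (fr Λ V ⟶ A)) (N : Set X),
      IsOpen[constructibleTopology X] N ∧ x ∈ N ∧
        ∀ (Ω : Type u) [Field Ω] [IsSepClosed Ω] (η : Spec (CommRingCat.of Ω) ⟶ X), η.base default ∈ N →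
          Subsingleton ((EtModW.stalk Λ η).obj (cokernel (Sigma.desc φ ≫ v))) := fun x => by
    let P : X.smallEtaleTopology.Point := Scheme.pointSmallEtale (gpt x)
    haveI := GrothLib.ModConstr.finite_stalk B hB (gpt x)
    obtain ⟨r, b, hb⟩ := Module.Finite.exists_fin (R := Λ) (M := (EtModW.stalk Λ (gpt x)).obj B)
    choose a ha using fun i => surjective_stalk v (gpt x) (b i)
    obtain ⟨t₀, -⟩ := exists_fib (gpt x) (U := EtCoh.top X) x (gpt_default x).symm
    obtain ⟨V₀, g₀, t₁, s₀, -, hs₀⟩ := GrothLib.ModConstr.exists_lift_sections (gpt x) A t₀ a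
    obtain ⟨V, g, t, A₀, ht, hV, -, -⟩ := exists_affine_refine (gpt x) t₁
    haveI := hV
    let φ : Fin r → (fr Λ V ⟶ A) := fun i => desc V (A.obj.map g.op (s₀ i))
    have hsub : Subsingleton ((EtModW.stalk Λ (gpt x)).obj (cokernel (Sigma.desc φ ≫ v))) := by
      refine subsingleton_of_forall_eq 0 fun z => ?_
      obtain ⟨y, rfl⟩ := surjective_stalk (cokernel.π (Sigma.desc φ ≫ v)) (gpt x) z
      have hy : y ∈ LinearMap.range ((EtModW.stalk Λ (gpt x)).map (Sigma.desc φ ≫ v)).hom := by
        refine (show (⊤ : Submodule Λ _) ≤ _ from hb ▸ Submodule.span_le.2 ?_) Submodule.mem_top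
        rintro _ ⟨i, rfl⟩
        refine ⟨(EtModW.stalk Λ (gpt x)).map (Sigma.ι (fun _ : Fin r => fr Λ V) i) (germUnit Λ V (gpt x) t), ?_⟩
        show (EtModW.stalk Λ (gpt x)).map (Sigma.desc φ ≫ v) ((EtModW.stalk Λ (gpt x)).map _ _) = b i
        rw [← ConcreteCategory.comp_apply, ← Functor.map_comp, Sigma.ι_desc_assoc, Functor.map_comp,
          ConcreteCategory.comp_apply, ← ha i]
        refine congrArg ((EtModW.stalk Λ (gpt x)).map v) ?_
        refine (P.toPresheafFiber_naturality_apply (φ i).hom V t (unitSec Λ V)).trans ?_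
        rw [desc_app, P.toPresheafFiber_w_apply, ht]
        exact hs₀ i
      obtain ⟨w, rfl⟩ := hy
      exact stalk_map_map_eq_zero (Sigma.desc φ ≫ v) (cokernel.π (Sigma.desc φ ≫ v)) (cokernel.condition _) (gpt x) w
    have hc : EtModW.IsConstructible Λ (cokernel (Sigma.desc φ ≫ v)) :=
      (isConstructible_kernel_cokernel _ (isConstructible_sigma _ fun _ => isConstructible_fr_affine V) hB).2
    obtain ⟨N, hN, hxN, hNs⟩ := exists_nhd_subsingleton _ hc x hsub
    exact ⟨r, V, hV, φ, N, hN, hxN, hNs⟩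
  choose r V hV φ N hN hxN hNs using loc
  obtain ⟨t, ht⟩ := @IsCompact.elim_finite_subcover X (constructibleTopology X) Set.univ _
    (GrothLib.Constr.isCompact_constructibleTopology_of_isClosed (@isClosed_univ X (constructibleTopology X)))
    N hN (fun x _ => Set.mem_iUnion.2 ⟨x, hxN x⟩)
  let ι := Σ x : {x // x ∈ t}, Fin (r x)
  let e : Fin (Fintype.card ι) ≃ ι := (Fintype.equivFin ι).symm
  let Φ : (∐ fun k => fr Λ (V (e k).1)) ⟶ A := Sigma.desc fun k => φ (e k).1 (e k).2
  refine ⟨Fintype.card ι, fun k => V (e k).1, fun k => hV _, Φ, ?_⟩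
  refine Preadditive.epi_of_cokernel_zero (GrothLib.ModConstr.zero_of_stalks (cokernel.π (Φ ≫ v)) fun Ω _ _ η => ?_)
  obtain ⟨x, hxt, hxN'⟩ := Set.mem_iUnion₂.1 (ht (Set.mem_univ (η.base default)))
  have hw : (Sigma.desc (φ x) ≫ v) ≫ cokernel.π (Φ ≫ v) = 0 := by
    refine Sigma.hom_ext _ _ fun i => ?_
    obtain ⟨k, hk⟩ := e.surjective ⟨⟨x, hxt⟩, i⟩
    have h0 := congrArg (Sigma.ι (fun k => fr Λ (V (e k).1)) k ≫ ·) (cokernel.condition (Φ ≫ v))
    simp only [Φ, Category.assoc, Sigma.ι_desc_assoc, comp_zero] at h0 ⊢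
    have key : ∀ p : ι, p = ⟨⟨x, hxt⟩, i⟩ → φ p.1 p.2 ≫ v ≫ cokernel.π (Φ ≫ v) = 0 →
        φ x i ≫ v ≫ cokernel.π (Φ ≫ v) = 0 := by
      rintro _ rfl h
      exact h
    exact key (e k) hk h0
  haveI := hNs x Ω η hxN'
  rw [← cokernel.π_desc _ _ hw, Functor.map_comp]
  ext y
  show (EtModW.stalk Λ η).map (cokernel.desc _ _ hw) ((EtModW.stalk Λ η).map (cokernel.π _) y) = 0
  rw [Subsingleton.elim ((EtModW.stalk Λ η).map (cokernel.π (Sigma.desc (φ x) ≫ v)) y) 0, map_zero]

end GrothLib.FreeCons19
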