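import Groth.Agent.Lib.FreeCons19.Constructible
import Groth.Agent.Lib.ExtZero.Open
import Groth.Agent.Lib.Constructible.ExtZero
import Groth.Agent.Lib.ModConstr.Strata

/-!
# Extensions by zero along quasi-compact quasi-separated étale morphisms preserve constructibility
-/

set_option autoImplicit false
set_option linter.style.haveILetI false
set_option linter.unusedSectionVars false
set_option backward.isDefEq.respectTransparency false
set_option backward.isDefEq.respectTransparency.types false

universe u

open CategoryTheory CategoryTheory.Limits AlgebraicGeometry Opposite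

noncomputable section

namespace GrothLib.FreeCons19

open GrothLib.EtSite GrothLib.ExtZero
open GrothLib.ModConstr (isConstructible_kernel_cokernel isConstructible_of_iso isConstructible_of_cover
  isConstructible_pull)

variable {Λ : Type (u + 1)} [CommRing Λ] {U X : Scheme.{u}}

/-- Extension by zero of `V_! Λ`. -/
def extZeroFr (j : U ⟶ X) [Etale j] [EtShriek.JCont j] (V : U.Etale) :
    (EtSix.extZeroMod Λ j).obj (fr Λ V) ≅ fr Λ ((EtShriek.compEtale j).obj V) where
  hom := ((EtSix.extZeroModAdj Λ j).homEquiv _ _).symm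
    (desc V (G := (EtSix.restrMod Λ j).obj (fr Λ ((EtShriek.compEtale j).obj V)))
      (unitSec Λ ((EtShriek.compEtale j).obj V)))
  inv := desc ((EtShriek.compEtale j).obj V)
    (((EtSix.extZeroModAdj Λ j).unit.app (fr Λ V)).hom.app (op V) (unitSec Λ V))
  hom_inv_id := by
    apply ((EtSix.extZeroModAdj Λ j).homEquiv _ _).injective
    rw [Adjunction.homEquiv_naturality_right, Equiv.apply_symm_apply, Adjunction.homEquiv_id]
    refine hom_ext V ?_
    show (desc ((EtShriek.compEtale j).obj V) _).hom.app (op ((EtShriek.compEtale j).obj V))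
      ((desc V (G := (EtSix.restrMod Λ j).obj (fr Λ ((EtShriek.compEtale j).obj V)))
        (unitSec Λ ((EtShriek.compEtale j).obj V))).hom.app (op V) (unitSec Λ V)) = _
    rw [desc_app]
    exact desc_app _ _
  inv_hom_id := by
    refine hom_ext _ ?_
    let φ := desc V (G := (EtSix.restrMod Λ j).obj (fr Λ ((EtShriek.compEtale j).obj V)))
      (unitSec Λ ((EtShriek.compEtale j).obj V))
    show (((EtSix.extZeroModAdj Λ j).homEquiv _ _).symm φ).hom.app _
      ((desc ((EtShriek.compEtale j).obj V) _).hom.app _ (unitSec Λ ((EtShriek.compEtale j).obj V))) = _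
    rw [desc_app]
    have h := congrArg (fun z : fr Λ V ⟶ _ => z.hom.app (op V) (unitSec Λ V))
      (((EtSix.extZeroModAdj Λ j).homEquiv _ _).apply_symm_apply φ)
    simp only [Adjunction.homEquiv_unit] at h
    exact h.trans (desc_app V _)

variable [IsNoetherianRing Λ]

/-- Over an affine base. -/
theorem isConstructible_extZeroMod_qcqs (j : U ⟶ X) [Etale j] [EtShriek.JCont j] [CompactSpace U]
    [QuasiSeparatedSpace U] [CompactSpace X] [QuasiSeparatedSpace X] (G : EtModW.Mod Λ U)
    (hG : EtModW.IsConstructible Λ G) : EtModW.IsConstructible Λ ((EtSix.extZeroMod Λ j).obj G) := by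
  have hsum : ∀ (m : ℕ) (V : Fin m → U.Etale), (∀ k, IsAffine (V k).left) →
      EtModW.IsConstructible Λ ((EtSix.extZeroMod Λ j).obj (∐ fun k => fr Λ (V k))) := fun m V hV => by
    refine isConstructible_of_iso (PreservesCoproduct.iso (EtSix.extZeroMod Λ j) fun k => fr Λ (V k)).symm
      (isConstructible_sigma _ fun k => isConstructible_of_iso (extZeroFr j (V k)).symm ?_)
    haveI : IsAffine ((EtShriek.compEtale j).obj (V k)).left := hV k
    exact isConstructible_fr_affine _
  obtain ⟨m, V, hV, φ, hφ⟩ := exists_generators (𝟙 G) hG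
  haveI : Epi φ := by simpa using hφ
  have hS : EtModW.IsConstructible Λ (∐ fun k => fr Λ (V k)) :=
    isConstructible_sigma _ fun k => by
      haveI := hV k
      exact isConstructible_fr_affine (V k)
  obtain ⟨n, W, hW, ψ, hψ⟩ := exists_generators (𝟙 (kernel φ)) (isConstructible_kernel_cokernel φ hS hG).1
  haveI : Epi ψ := by simpa using hψ
  let e : cokernel (ψ ≫ kernel.ι φ) ≅ G := cokernelEpiComp ψ (kernel.ι φ) ≪≫
    (cokernelIsCokernel (kernel.ι φ)).coconePointUniqueUpToIso
      (Abelian.epiIsCokernelOfKernel (KernelFork.ofι (kernel.ι φ) (kernel.condition φ)) (kernelIsKernel φ))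
  exact isConstructible_of_iso ((PreservesCokernel.iso (EtSix.extZeroMod Λ j) (ψ ≫ kernel.ι φ)).symm ≪≫
      (EtSix.extZeroMod Λ j).mapIso e)
    (isConstructible_kernel_cokernel _ (hsum n W hW) (hsum m V hV)).2

/-- Restriction commutes with direct image in a cartesian square. -/
def pushRestrModIso {V' V Y : Scheme.{u}} (j : V ⟶ X) [Etale j] [EtShriek.JCont j] (f : Y ⟶ X) (j' : V' ⟶ Y)
    [Etale j'] [EtShriek.JCont j'] (f' : V' ⟶ V) (h : IsPullback j' f' f j) :
    EtModW.push Λ f ⋙ EtSix.restrMod Λ j ≅ EtSix.restrMod Λ j' ⋙ EtModW.push Λ f' :=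
  haveI : (EtShriek.compEtale j ⋙ EtCoh.bc f).IsContinuous V.smallEtaleTopology Y.smallEtaleTopology :=
    Functor.isContinuous_comp _ _ _ X.smallEtaleTopology _
  haveI : (EtCoh.bc f' ⋙ EtShriek.compEtale j').IsContinuous V.smallEtaleTopology Y.smallEtaleTopology :=
    Functor.isContinuous_comp _ _ _ V'.smallEtaleTopology _
  Functor.sheafPushforwardContinuousComp (EtShriek.compEtale j) (EtCoh.bc f) (ModuleCat.{u + 1} Λ)
      V.smallEtaleTopology X.smallEtaleTopology Y.smallEtaleTopology ≪≫
    Functor.sheafPushforwardContinuousIso (bcCompIso j f j' f' h) (ModuleCat.{u + 1} Λ)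
      V.smallEtaleTopology Y.smallEtaleTopology ≪≫
    (Functor.sheafPushforwardContinuousComp (EtCoh.bc f') (EtShriek.compEtale j') (ModuleCat.{u + 1} Λ)
      V.smallEtaleTopology V'.smallEtaleTopology Y.smallEtaleTopology).symm

/-- Extension by zero commutes with inverse image. -/
def extZeroModBaseChange {V' V Y : Scheme.{u}} (j : V ⟶ X) [Etale j] [EtShriek.JCont j] (f : Y ⟶ X) (j' : V' ⟶ Y)
    [Etale j'] [EtShriek.JCont j'] (f' : V' ⟶ V) (h : IsPullback j' f' f j) :
    EtModW.pull Λ f' ⋙ EtSix.extZeroMod Λ j' ≅ EtSix.extZeroMod Λ j ⋙ EtModW.pull Λ f :=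
  Adjunction.leftAdjointUniq ((FixPt.pullPushAdj (Λ := Λ) f').comp (EtSix.extZeroModAdj Λ j'))
    (((EtSix.extZeroModAdj Λ j).comp (FixPt.pullPushAdj (Λ := Λ) f)).ofNatIsoRight (pushRestrModIso j f j' f' h))

/-- `j_!` preserves constructibility. -/
theorem isConstructible_extZeroMod (j : U ⟶ X) [Etale j] [EtShriek.JCont j] [QuasiCompact j]
    [QuasiSeparated j] (G : EtModW.Mod Λ U) (hG : EtModW.IsConstructible Λ G) :
    EtModW.IsConstructible Λ ((EtSix.extZeroMod Λ j).obj G) := by
  refine isConstructible_of_cover _ (fun W : X.affineOpens => W.1) (iSup_affineOpens_eq_top X) fun W => ?_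
  haveI : IsAffine (W.1 : Scheme.{u}) := W.2
  let j' : pullback W.1.ι j ⟶ (W.1 : Scheme.{u}) := pullback.fst W.1.ι j
  haveI : Etale j' := inferInstanceAs (Etale (pullback.fst W.1.ι j))
  haveI : QuasiCompact j' := inferInstanceAs (QuasiCompact (pullback.fst W.1.ι j))
  haveI : QuasiSeparated j' := inferInstanceAs (QuasiSeparated (pullback.fst W.1.ι j))
  haveI : EtShriek.JCont j' := GrothLib.Constructible.jcont j'
  haveI : CompactSpace ↥(pullback W.1.ι j) := QuasiCompact.compactSpace_of_compactSpace j'
  haveI : QuasiSeparatedSpace ↥(pullback W.1.ι j) := quasiSeparatedSpace_of_quasiSeparated j'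
  exact isConstructible_of_iso
    ((extZeroModBaseChange j W.1.ι j' (pullback.snd W.1.ι j) (IsPullback.of_hasPullback _ _)).app G)
    (isConstructible_extZeroMod_qcqs j' _ (isConstructible_pull _ G hG))

end GrothLib.FreeCons19
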