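import Groth.Agent.Lib.FreeCons19.Constructible
import Groth.Agent.Lib.PC.Limit
import Groth.Agent.Lib.PC.Consequences
import Mathlib.Algebra.Category.ModuleCat.Products
import Mathlib.RingTheory.Flat.Basic

/-!
# Resolutions by finite sums of `j_! Λ`
-/

set_option autoImplicit false
set_option linter.style.haveILetI false
set_option linter.unusedSectionVars false
set_option backward.isDefEq.respectTransparency false
set_option backward.isDefEq.respectTransparency.types false

universe u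

open CategoryTheory CategoryTheory.Limits AlgebraicGeometry Opposite DerivedCategory

attribute [local instance] HasDerivedCategory.standard

noncomputable section

namespace GrothLib.FreeCons19

open GrothLib.ModConstr (isConstructible_kernel_cokernel isConstructible_of_iso isConstructible_of_isZero)

variable {Λ : Type (u + 1)} [CommRing Λ] {X : Scheme.{u}}

variable (Λ X) in
/-- Finite sums of `j_! Λ` over affine étale schemes. -/
def IsSumFr : ObjectProperty (EtModW.Mod Λ X) := fun F =>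
  ∃ (m : ℕ) (V : Fin m → X.Etale), (∀ k, IsAffine (V k).left) ∧ Nonempty (F ≅ ∐ fun k => fr Λ (V k))

instance : (IsSumFr Λ X).IsClosedUnderIsomorphisms where
  of_iso e := fun ⟨m, V, hV, ⟨i⟩⟩ => ⟨m, V, hV, ⟨e.symm ≪≫ i⟩⟩

theorem isSumFr_of_isZero {F : EtModW.Mod Λ X} (h : IsZero F) : IsSumFr Λ X F := by
  refine ⟨0, fun k => k.elim0, fun k => k.elim0, ⟨h.iso ?_⟩⟩
  exact (IsZero.iff_id_eq_zero _).2 (Sigma.hom_ext _ _ fun k => k.elim0)

instance : (IsSumFr Λ X).ContainsZero := by
  obtain ⟨Z, hZ⟩ := HasZeroObject.zero (C := EtModW.Mod Λ X)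
  exact ⟨Z, hZ, isSumFr_of_isZero hZ⟩

attribute [local instance] Abelian.hasFiniteBiproducts

theorem isSumFr_prod (F G : EtModW.Mod Λ X) (hF : IsSumFr Λ X F) (hG : IsSumFr Λ X G) :
    IsSumFr Λ X (F ⨯ G) := by
  obtain ⟨m, V, hV, ⟨eF⟩⟩ := hF
  obtain ⟨n, W, hW, ⟨eG⟩⟩ := hG
  let f : Fin (m + n) → X.Etale := fun k => Sum.elim V W (finSumFinEquiv.symm k)
  have hl : ∀ k, f (finSumFinEquiv (Sum.inl k)) = V k := fun k => by simp [f]
  have hr : ∀ k, f (finSumFinEquiv (Sum.inr k)) = W k := fun k => by simp [f]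
  refine ⟨m + n, f, fun k => ?_, ⟨(biprod.isoProd F G).symm ≪≫ biprod.mapIso eF eG ≪≫ ?_⟩⟩
  · obtain ⟨k | k, rfl⟩ := finSumFinEquiv.surjective k
    · rw [hl]; exact hV k
    · rw [hr]; exact hW k
  · let T : Fin m ⊕ Fin n → EtModW.Mod Λ X := fun s => Sum.elim (fun k => fr Λ (V k)) (fun k => fr Λ (W k)) s
    let e₂ : ((∐ fun k => fr Λ (V k)) ⊞ (∐ fun k => fr Λ (W k))) ≅ ∐ T :=
      { hom := biprod.desc (Sigma.desc fun k => Sigma.ι T (Sum.inl k)) (Sigma.desc fun k => Sigma.ι T (Sum.inr k))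
        inv := Sigma.desc fun s => match s with
          | Sum.inl k => Sigma.ι (fun k => fr Λ (V k)) k ≫ biprod.inl
          | Sum.inr k => Sigma.ι (fun k => fr Λ (W k)) k ≫ biprod.inr
        hom_inv_id := by
          refine biprod.hom_ext' _ _ (Sigma.hom_ext _ _ fun k => ?_) (Sigma.hom_ext _ _ fun k => ?_) <;> simp
        inv_hom_id := by
          refine Sigma.hom_ext _ _ fun s => ?_
          rcases s with k | k <;> simp }
    exact e₂ ≪≫ (Sigma.whiskerEquiv finSumFinEquiv fun s => eqToIso (by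
      rcases s with k | k
      · show fr Λ (f (finSumFinEquiv (Sum.inl k))) = _
        rw [hl]; rfl
      · show fr Λ (f (finSumFinEquiv (Sum.inr k))) = _
        rw [hr]; rfl))

variable [IsNoetherianRing Λ]

theorem isConstructible_isSumFr [CompactSpace X] [QuasiSeparatedSpace X] {F : EtModW.Mod Λ X}
    (h : IsSumFr Λ X F) : EtModW.IsConstructible Λ F := by
  obtain ⟨m, V, hV, ⟨e⟩⟩ := h
  exact isConstructible_of_iso e.symm (isConstructible_sigma _ fun k => by
    haveI := hV k
    exact isConstructible_fr_affine (V k))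

theorem flat_stalk_isSumFr {F : EtModW.Mod Λ X} (h : IsSumFr Λ X F) {Ω : Type u} [Field Ω] [IsSepClosed Ω]
    (ξ : Spec (CommRingCat.of Ω) ⟶ X) : Module.Flat Λ ((EtModW.stalk Λ ξ).obj F) := by
  classical
  obtain ⟨m, V, hV, ⟨e⟩⟩ := h
  let G : Fin m → ModuleCat.{u + 1} Λ := fun k => (EtModW.stalk Λ ξ).obj (fr Λ (V k))
  haveI : ∀ k, Module.Free Λ (G k) := fun k => free_stalk_fr (V k) ξ
  let i : (EtModW.stalk Λ ξ).obj F ≅ ModuleCat.of Λ (DirectSum (Fin m) fun k => G k) :=
    (EtModW.stalk Λ ξ).mapIso e ≪≫ (PreservesCoproduct.iso (EtModW.stalk Λ ξ) fun k => fr Λ (V k)) ≪≫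
      ModuleCat.coprodIsoDirectSum G
  exact Module.Flat.of_linearEquiv i.toLinearEquiv

variable [CompactSpace X] [QuasiSeparatedSpace X]

theorem isOfFiniteType_of_constructible {F : EtModW.Mod Λ X} (h : EtModW.IsConstructible Λ F) :
    PCoh.IsOfFiniteType (IsSumFr Λ X) F := by
  obtain ⟨m, V, hV, φ, hφ⟩ := exists_generators (𝟙 F) h
  exact ⟨_, φ ≫ 𝟙 F, ⟨m, V, hV, ⟨Iso.refl _⟩⟩, hφ⟩

theorem isQuasiLiftable_isSumFr : PCoh.IsQuasiLiftable (IsSumFr Λ X) := fun E F v hv hF => by
  haveI := hv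
  obtain ⟨m, V, hV, φ, hφ⟩ := exists_generators v (isConstructible_isSumFr hF)
  exact ⟨_, φ, ⟨m, V, hV, ⟨Iso.refl _⟩⟩, hφ⟩

theorem hcoh_isSumFr (F E : EtModW.Mod Λ X) (u : E ⟶ F) (hF : IsSumFr Λ X F) (hE : IsSumFr Λ X E) :
    PCoh.IsOfFiniteType (IsSumFr Λ X) (kernel u) :=
  isOfFiniteType_of_constructible
    (isConstructible_kernel_cokernel u (isConstructible_isSumFr hE) (isConstructible_isSumFr hF)).1

theorem coherent_of_constructible {F : EtModW.Mod Λ X} (h : EtModW.IsConstructible Λ F) :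
    PC.Coherent (IsSumFr Λ X) F :=
  ⟨isOfFiniteType_of_constructible h, fun _ u hE => isOfFiniteType_of_constructible
    (isConstructible_kernel_cokernel u (isConstructible_isSumFr hE) h).1⟩

/-- Complexes with constructible cohomology bounded above are resolved by sums of `j_! Λ`. -/
theorem exists_resolution (K : CochainComplex (EtModW.Mod Λ X) ℤ) (m : ℤ)
    (hK : ∀ i, EtModW.IsConstructible Λ (K.homology i)) (hb : ∀ i, m ≤ i → IsZero (K.homology i)) :
    ∃ (L : CochainComplex (EtModW.Mod Λ X) ℤ) (s : L ⟶ K), (∀ i, IsSumFr Λ X (L.X i)) ∧ QuasiIso s ∧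
      ∀ i, m ≤ i → IsZero (L.X i) := by
  have hz : ∀ i, m ≤ i → IsZero ((homologyFunctor _ i).obj (Q.obj K)) := fun i hi =>
    (hb i hi).of_iso ((homologyFunctorFactors _ i).app K)
  have hc : ∀ i, EtModW.IsConstructible Λ ((homologyFunctor _ i).obj (Q.obj K)) := fun i =>
    isConstructible_of_iso ((homologyFunctorFactors _ i).app K).symm (hK i)
  have hpc : ∀ n, PC.PCn (IsSumFr Λ X) n (Q.obj K) := fun n =>
    (PC.pcn_iff_coherent_homology (IsSumFr Λ X) isSumFr_prod isQuasiLiftable_isSumFr hcoh_isSumFr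
      (b := m) (fun i hi => hz i hi.le)).2
      ⟨isOfFiniteType_of_constructible (hc n), fun i _ => coherent_of_constructible (hc i)⟩
  obtain ⟨L, s, hL, hs, hLz⟩ := PC.exists_strictAll_resolution (IsSumFr Λ X) isSumFr_prod
    (PC.isQuasiStable_of_coherent (IsSumFr Λ X) hcoh_isSumFr) isQuasiLiftable_isSumFr hpc m hz
  exact ⟨L, s, hL.2, hs, hLz⟩

/-- Complexes of constructible sheaves have constructible cohomology. -/
theorem isConstructible_homology (K : CochainComplex (EtModW.Mod Λ X) ℤ)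
    (hK : ∀ i, EtModW.IsConstructible Λ (K.X i)) (i : ℤ) : EtModW.IsConstructible Λ (K.homology i) := by
  have hZ : EtModW.IsConstructible Λ (K.cycles i) :=
    isConstructible_of_iso ((kernelIsKernel _).conePointUniqueUpToIso (K.cyclesIsKernel i (i + 1) (by simp)))
      (isConstructible_kernel_cokernel (K.d i (i + 1)) (hK _) (hK _)).1
  exact isConstructible_of_iso ((cokernelIsCokernel _).coconePointUniqueUpToIso (K.homologyIsCokernel (i - 1) i (by simp)))
    (isConstructible_kernel_cokernel (K.toCycles (i - 1) i) (hK _) hZ).2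

end GrothLib.FreeCons19
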